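import Mathlib
import Cfsg.Agent.S1525
import Cfsg.Agent.H43.DadeVirtual

/-!
# PF 2 and 7: restricting the Dade hypothesis, the map ρ (averaging over a·H(a)), the cover inequality
-/

set_option autoImplicit false

namespace Cfsg.Agent.OddOrder.PF7

universe u

open Cfsg.Agent

variable {G : Type u} [Group G] {A B : Set G} {L : Subgroup G} {H : G → Subgroup G}

/-- PF (2.10): the Dade hypothesis restricts to invariant subsets. -/
theorem dadeHypothesis_subset (hD : Cfsg.DadeHypothesis A L H) (hBA : B ⊆ A)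
    (hB : ∀ x ∈ L, ∀ b ∈ B, x * b * x⁻¹ ∈ B) : Cfsg.DadeHypothesis B L H :=
  ⟨fun h => hD.one_not_mem (hBA h), fun b hb => hD.subset (hBA hb), hB,
    fun b hb g hg => hD.fusion b (hBA hb) g (hBA hg), fun b hb => hD.le_centralizer b (hBA hb),
    fun b hb => hD.conj_mem_H b (hBA hb), fun b hb => hD.inf_eq_bot b (hBA hb),
    fun b hb => hD.sup_eq b (hBA hb), fun a ha b hb => hD.coprime a (hBA ha) b (hBA hb)⟩

theorem dadeSupp_mono (hBA : B ⊆ A) : H43.dadeSupp B H ⊆ H43.dadeSupp A H := by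
  rintro g ⟨a, ha, h⟩
  exact ⟨a, hBA ha, h⟩

/-- PF (2.10): the Dade map of the larger set agrees on class functions supported in the smaller one. -/
theorem dadeIsometry_subset [Finite G] (hD : Cfsg.DadeHypothesis A L H) (hBA : B ⊆ A)
    (hB : ∀ x ∈ L, ∀ b ∈ B, x * b * x⁻¹ ∈ B) {α : L → ℂ} (hα : Cfsg.IsClassFunction L α)
    (hαB : ∀ x : L, (x : G) ∉ B → α x = 0) :
    Cfsg.dadeIsometry B L H α = Cfsg.dadeIsometry A L H α := by
  funext g
  by_cases h : ∃ a : ↥L, (a : G) ∈ B ∧ ∃ x : G, ∃ u ∈ H (a : G), x * g * x⁻¹ = (a : G) * u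
  · obtain ⟨a, ha, x, u, hu, hx⟩ := h
    rw [H43.dade_apply (dadeHypothesis_subset hD hBA hB) hα ha hu hx,
      H43.dade_apply hD hα (hBA ha) hu hx]
  · rw [H43.dade_apply_zero h]
    by_cases h' : ∃ a : ↥L, (a : G) ∈ A ∧ ∃ x : G, ∃ u ∈ H (a : G), x * g * x⁻¹ = (a : G) * u
    · obtain ⟨a, ha, x, u, hu, hx⟩ := h'
      rw [H43.dade_apply hD hα ha hu hx]
      exact (hαB a fun hb => h ⟨a, hb, x, u, hu, hx⟩).symm
    · rw [H43.dade_apply_zero h']

theorem dade_eq_zero_of_not_mem [Finite G] {α : L → ℂ} {g : G} (hg : g ∉ H43.dadeSupp A H) :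
    Cfsg.dadeIsometry A L H α g = 0 :=
  H43.dade_apply_zero fun ⟨a, ha, x, u, hu, hx⟩ => hg ⟨a, ha, u, hu, x, hx⟩

open Classical in
/-- The map ρ of PF (7.2): the average over the coset `a·H(a)` for `a ∈ A`, zero elsewhere. -/
noncomputable def invDade (A : Set G) (L : Subgroup G) (H : G → Subgroup G) (χ : G → ℂ) : L → ℂ :=
  fun a => if (a : G) ∈ A then (Nat.card (H (a : G)) : ℂ)⁻¹ * ∑ᶠ u ∈ (H (a : G) : Set G), χ (a * u) else 0

theorem invDade_apply {χ : G → ℂ} {a : L} (ha : (a : G) ∈ A) :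
    invDade A L H χ a = (Nat.card (H (a : G)) : ℂ)⁻¹ * ∑ᶠ u ∈ (H (a : G) : Set G), χ (a * u) :=
  if_pos ha

theorem invDade_eq_zero {χ : G → ℂ} {a : L} (ha : (a : G) ∉ A) : invDade A L H χ a = 0 := if_neg ha

theorem invDade_add [Finite G] (χ ψ : G → ℂ) :
    invDade A L H (χ + ψ) = invDade A L H χ + invDade A L H ψ := by
  funext a
  by_cases ha : (a : G) ∈ A
  · simp only [invDade_apply ha, Pi.add_apply]
    rw [finsum_mem_add_distrib (Set.toFinite _), mul_add]
  · simp [invDade_eq_zero ha]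

theorem invDade_smul [Finite G] (c : ℂ) (χ : G → ℂ) :
    invDade A L H (c • χ) = c • invDade A L H χ := by
  funext a
  by_cases ha : (a : G) ∈ A
  · simp only [invDade_apply ha, Pi.smul_apply, smul_eq_mul]
    simp only [finsum_mem_eq_finite_toFinset_sum _ (Set.toFinite _), Finset.mul_sum]
    exact Finset.sum_congr rfl fun u _ => by ring
  · simp [invDade_eq_zero ha]

theorem invDade_eq_of_eq_on {χ : G → ℂ} {a : L} (ha : (a : G) ∈ A) [Finite G] {c : ℂ}
    (h : ∀ u ∈ H (a : G), χ (a * u) = c) : invDade A L H χ a = c := by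
  rw [invDade_apply ha, finsum_mem_congr rfl (g := fun _ => c) h,
    finsum_mem_eq_finite_toFinset_sum _ (Set.toFinite _), Finset.sum_const, nsmul_eq_mul,
    ← Nat.card_eq_card_finite_toFinset, ← mul_assoc]
  simp only [SetLike.coe_sort_coe]
  rw [inv_mul_cancel₀ (Nat.cast_ne_zero.mpr (Nat.card_pos (α := H (a : G))).ne'), one_mul]

theorem invDade_isClassFunction [Finite G] (hD : Cfsg.DadeHypothesis A L H) {χ : G → ℂ}
    (hχ : Cfsg.IsClassFunction G χ) : Cfsg.IsClassFunction L (invDade A L H χ) := by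
  intro a l
  by_cases ha : (a : G) ∈ A
  · have ha' : ((l * a * l⁻¹ : L) : G) ∈ A := hD.conj_mem l l.2 a ha
    have hga : (l : G) * a * (l : G)⁻¹ ∈ A := ha'
    rw [invDade_apply ha', invDade_apply ha]
    show (Nat.card (H ((l : G) * a * (l : G)⁻¹)) : ℂ)⁻¹ *
      ∑ᶠ u ∈ (H ((l : G) * a * (l : G)⁻¹) : Set G), χ ((l : G) * a * (l : G)⁻¹ * u) = _
    rw [H43.dade_card_conj hD ha hga, H43.dade_H_conj hD ha hga]
    congr 1
    rw [Subgroup.coe_map, finsum_mem_image (g := (MulAut.conj (l : G)).toMonoidHom)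
      (MulAut.conj (l : G)).injective.injOn]
    refine finsum_mem_congr rfl fun u _ => ?_
    rw [← hχ ((a : G) * u) (l : G)]
    congr 1
    show (l : G) * a * (l : G)⁻¹ * ((l : G) * u * (l : G)⁻¹) = _
    group
  · rw [invDade_eq_zero ha, invDade_eq_zero]
    intro h
    refine ha ?_
    have := hD.conj_mem l⁻¹ (inv_mem l.2) _ h
    rwa [show (l : G)⁻¹ * ((l * a * l⁻¹ : L) : G) * ((l : G)⁻¹)⁻¹ = (a : G) by
      push_cast; group] at this

/-- PF (7.2): reciprocity. -/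
theorem classInner_invDade [Fintype G] [Fintype L] (hD : Cfsg.DadeHypothesis A L H) {α : L → ℂ}
    (hα : Cfsg.IsClassFunction L α) (hαA : ∀ x : L, (x : G) ∉ A → α x = 0) {χ : G → ℂ}
    (hχ : Cfsg.IsClassFunction G χ) :
    Cfsg.classInner (Cfsg.dadeIsometry A L H α) χ = Cfsg.classInner α (invDade A L H χ) :=
  (Cfsg.Agent.S1500.result A L H hD α hα hαA).2 χ _ hχ fun _ ha => invDade_apply ha

/-- ρ is a left inverse of the Dade map. -/
theorem invDade_dade [Finite G] (hD : Cfsg.DadeHypothesis A L H) {α : L → ℂ}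
    (hα : Cfsg.IsClassFunction L α) (hαA : ∀ x : L, (x : G) ∉ A → α x = 0) :
    invDade A L H (Cfsg.dadeIsometry A L H α) = α := by
  funext a
  by_cases ha : (a : G) ∈ A
  · exact invDade_eq_of_eq_on ha fun u hu => H43.dade_apply hD hα ha hu (x := 1) (by group)
  · rw [invDade_eq_zero ha, hαA a ha]

/-- PF (7.3): the norm of ρ χ is at most the part of the norm of χ on the Dade support. -/
theorem norm_invDade_le [Fintype G] [Fintype L] (hD : Cfsg.DadeHypothesis A L H) {χ : G → ℂ}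
    (hχ : Cfsg.IsClassFunction G χ) :
    (Nat.card L : ℝ)⁻¹ * ∑ a : L, ‖invDade A L H χ a‖ ^ 2 ≤
      (Nat.card G : ℝ)⁻¹ * ∑ g ∈ (Set.toFinite (H43.dadeSupp A H)).toFinset, ‖χ g‖ ^ 2 := by
  have h := Cfsg.Agent.S1525.result A L H hD χ hχ (invDade A L H χ) fun _ ha => invDade_apply ha
  refine le_trans (le_of_eq ?_) (h.trans (le_of_eq ?_))
  · congr 1
    rw [finsum_mem_eq_sum_of_inter_support_eq _ (s := {a : L | (a : G) ∈ A}) (t := Finset.univ)]
    ext a
    simp only [Finset.coe_univ, Set.univ_inter, Set.mem_inter_iff, Function.mem_support,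
      and_iff_right_iff_imp]
    intro ha
    by_contra h'
    exact ha (by rw [invDade_eq_zero (A := A) (fun hh => h' hh), norm_zero, zero_pow two_ne_zero])
  · exact congrArg _ (finsum_mem_eq_finite_toFinset_sum _ _)

theorem sum_dadeSupp_one [Fintype G] (hD : Cfsg.DadeHypothesis A L H) :
    (Nat.card L : ℝ) * (Set.ncard (H43.dadeSupp A H)) = (Nat.card G : ℝ) * Set.ncard A := by
  classical
  have h := H43.dade_sum hD (fun _ : G => (1 : ℝ)) fun _ _ => rfl
  have e : ∀ s : Set G, (Finset.univ.filter (· ∈ s)).card = s.ncard := fun s => by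
    rw [← Set.ncard_coe_finset]
    congr 1
    ext; simp
  rw [Finset.sum_const, nsmul_one, e] at h
  rw [h]
  congr 1
  rw [← e A, ← nsmul_one (Finset.card _), ← Finset.sum_const]
  refine Finset.sum_congr rfl fun a _ => ?_
  rw [Finset.sum_const, nsmul_one,
    show (Finset.univ.filter (· ∈ H a)).card = Nat.card (H a) by
      rw [← Fintype.card_subtype, ← Nat.card_eq_fintype_card]]
  exact inv_mul_cancel₀ (Nat.cast_ne_zero.2 (Nat.card_pos (α := H a)).ne')

/-- PF (7.5): the cover inequality. -/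
theorem cover_inequality [Fintype G] {ι : Type*} [Fintype ι] (A : ι → Set G) (L : ι → Subgroup G)
    [∀ i, Fintype (L i)] (H : ι → G → Subgroup G) (hD : ∀ i, Cfsg.DadeHypothesis (A i) (L i) (H i))
    (hdisj : ∀ i j, i ≠ j → Disjoint (H43.dadeSupp (A i) (H i)) (H43.dadeSupp (A j) (H j)))
    {χ : G → ℂ} (hχ : Cfsg.IsClassFunction G χ) (S : Finset G)
    (hS : ∀ g ∈ S, ∀ i, g ∉ H43.dadeSupp (A i) (H i)) :
    (Nat.card G : ℝ)⁻¹ * ∑ g ∈ S, ‖χ g‖ ^ 2 +
        ∑ i, (Nat.card (L i) : ℝ)⁻¹ * ∑ a : L i, ‖invDade (A i) (L i) (H i) χ a‖ ^ 2 ≤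
      (Nat.card G : ℝ)⁻¹ * ∑ g : G, ‖χ g‖ ^ 2 := by
  classical
  refine le_trans (add_le_add le_rfl (Finset.sum_le_sum fun i _ => norm_invDade_le (hD i) hχ)) ?_
  rw [← Finset.mul_sum, ← mul_add]
  refine mul_le_mul_of_nonneg_left ?_ (inv_nonneg.2 (Nat.cast_nonneg _))
  rw [← Finset.sum_biUnion, ← Finset.sum_union]
  · exact Finset.sum_le_sum_of_subset_of_nonneg (Finset.subset_univ _) fun g _ _ => by positivity
  · rw [Finset.disjoint_left]
    intro g hg hg'
    obtain ⟨i, -, hi⟩ := Finset.mem_biUnion.1 hg'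
    exact hS g hg i ((Set.Finite.mem_toFinset _).1 hi)
  · intro i _ j _ hij
    rw [Function.onFun, Set.Finite.disjoint_toFinset]
    exact hdisj i j hij

end Cfsg.Agent.OddOrder.PF7
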